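import Cfsg.Agent.JTY.Rel

set_option autoImplicit false
set_option Elab.async false
set_option maxRecDepth 100000
set_option linter.all false

namespace Cfsg.Agent.JTY
open Cfsg.Agent.CGT

noncomputable def l0_n0 : Net := Net.cons 8 0x26 <|
  Net.cons 4 0x602 <|
  Net.cons 2 0x2002 <|
  Net.cons 1 0x4504 <|
  Net.cons 2 0x2012 <|
  Net.cons 4 0x60a <|
  Net.cons 8 0x26 <|
  Net.nil
noncomputable def l0_n1 : Net := Net.cons 8 0x3e <|
  Net.cons 4 0x400 <|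
  Net.cons 2 0x2002 <|
  Net.cons 1 0x4054 <|
  Net.cons 2 0x2202 <|
  Net.cons 4 0x500 <|
  Net.cons 8 0x3e <|
  Net.nil
noncomputable def l0_n2 : Net := Net.cons 8 0x8 <|
  Net.cons 4 0x20a <|
  Net.cons 1 0x1510 <|
  Net.cons 2 0x302 <|
  Net.cons 4 0x20e <|
  Net.cons 8 0x8 <|
  Net.nil
noncomputable def l0_n3 : Net := Net.cons 8 0xee <|
  Net.cons 4 0xe00 <|
  Net.cons 2 0x220 <|
  Net.cons 1 0x144 <|
  Net.cons 2 0x1032 <|
  Net.cons 4 0xa00 <|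
  Net.cons 8 0xbe <|
  Net.nil
noncomputable def l0_n4 : Net := Net.cons 8 0xb0 <|
  Net.cons 4 0x400 <|
  Net.cons 2 0x200 <|
  Net.cons 1 0x4111 <|
  Net.cons 2 0x200 <|
  Net.cons 4 0x604 <|
  Net.cons 8 0xb0 <|
  Net.nil
noncomputable def l0_ns : List Net := [l0_n0, l0_n1, l0_n2, l0_n3, l0_n4]
noncomputable def l0_R : List (List ℕ) := [[0, 0], [2, 2], [4, 4], [8, 8], [0, 2, 0, 2, 4], [4, 0, 4, 0], [6, 6, 6], [2, 6, 2, 6], [6, 4, 7, 0], [6, 0, 7, 0, 4], [8, 6, 8, 6], [8, 0, 8, 0, 8, 0, 8, 0, 8, 0], [8, 4, 8, 4, 8, 4], [8, 4, 0, 8, 4, 0, 8, 4, 0, 8, 4, 0, 8, 4, 0], [8, 2, 8, 2, 8, 2]]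
noncomputable def l0_S0 : List (List ℕ) := [[0], [2], [4], [6]]
noncomputable def l0_E : Enum := ⟨l0_ns, l0_R, l0_S0, [], 0⟩
theorem l0_v : validAll (2 ^ 4) l0_ns = true := by decide +kernel
theorem l0_p0 : holdsB 4 l0_ns l0_R = true := by decide +kernel
theorem l0_p : Holds (lp l0_ns) l0_R := holdsB_sound l0_v l0_p0
theorem l0_f : allL l0_E.Sub (fixN l0_E.ns l0_E.b0) = true := by decide +kernel
theorem l0_r0 : l0_E.run [34, 12, 2, 0, 10, 4, 18, 8, 34, 12, 2, 0, 10, 4, 4116, 16, 0, 4112, 4, 3, 7, 11, 15, 25, 4136, 25, 4124, 25, 32, 25, 4136, 25, 4124, 25, 32, 25, 4136, 25, 48, 56, 4152, 28, 4, 40, 12, 4144, 20, 12320, 4112, 16400, 8, 36, 25, 12324, 24, 25, 48, 40] (1 <<< 0) (List.replicate 10 0) (Enum.done 15 [0, 2, 4, 6, 8]) = true := by decide +kernel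
theorem l0_fin {G : Type*} [Group G] {γ : ℕ → G} (hR : Holds (ext γ) l0_R) {H : Subgroup G}
    (hS : ∀ u ∈ l0_S0, ev (ext γ) u ∈ H) : l0_E.Fin γ H 15 [0, 2, 4, 6, 8] :=
  have hy : l0_E.Hyp γ H := Enum.hyp_of l0_v hR l0_p hS l0_f
  (Enum.fin_of_done hy (Enum.inv_init 10) l0_r0)
noncomputable def l1_n1 : Net := Net.cons 2 0x2 <|
  Net.cons 1 0x4 <|
  Net.cons 2 0x2 <|
  Net.nil
noncomputable def l1_n3 : Net := Net.cons 1 0x1 <|
  Net.cons 2 0x1 <|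
  Net.nil
noncomputable def l1_ns : List Net := [Net.nil, l1_n1, Net.nil, l1_n3, Net.nil]
noncomputable def l1_R : List (List ℕ) := [[0, 0], [2, 2], [4, 4], [0, 2, 0, 2, 4], [4, 0, 4, 0], [6, 6, 6], [2, 6, 2, 6], [6, 4, 7, 0], [6, 0, 7, 0, 4]]
noncomputable def l1_S0 : List (List ℕ) := [[0], [2], [4]]
noncomputable def l1_E : Enum := ⟨l1_ns, l1_R, l1_S0, [], 0⟩
theorem l1_v : validAll (2 ^ 3) l1_ns = true := by decide +kernel
theorem l1_p0 : holdsB 3 l1_ns l1_R = true := by decide +kernel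
theorem l1_p : Holds (lp l1_ns) l1_R := holdsB_sound l1_v l1_p0
theorem l1_f : allL l1_E.Sub (fixN l1_E.ns l1_E.b0) = true := by decide +kernel
theorem l1_r0 : l1_E.run [26, 25, 30, 29, 20, 25, 3, 7, 11, 24, 4, 4124, 12316, 12, 16396] (1 <<< 0) (List.replicate 9 0) (Enum.done 3 [0, 2, 4, 6]) = true := by decide +kernel
theorem l1_fin {G : Type*} [Group G] {γ : ℕ → G} (hR : Holds (ext γ) l1_R) {H : Subgroup G}
    (hS : ∀ u ∈ l1_S0, ev (ext γ) u ∈ H) : l1_E.Fin γ H 3 [0, 2, 4, 6] :=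
  have hy : l1_E.Hyp γ H := Enum.hyp_of l1_v hR l1_p hS l1_f
  (Enum.fin_of_done hy (Enum.inv_init 9) l1_r0)
noncomputable def l2_n1 : Net := Net.cons 1 0x1 <|
  Net.nil
noncomputable def l2_ns : List Net := [Net.nil, l2_n1, Net.nil, Net.nil, Net.nil]
noncomputable def l2_R : List (List ℕ) := [[0, 0], [2, 2], [4, 4], [0, 2, 0, 2, 4], [4, 0, 4, 0]]
noncomputable def l2_S0 : List (List ℕ) := [[0], [4]]
noncomputable def l2_E : Enum := ⟨l2_ns, l2_R, l2_S0, [], 0⟩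
theorem l2_v : validAll (2 ^ 3) l2_ns = true := by decide +kernel
theorem l2_p0 : holdsB 3 l2_ns l2_R = true := by decide +kernel
theorem l2_p : Holds (lp l2_ns) l2_R := holdsB_sound l2_v l2_p0
theorem l2_f : allL l2_E.Sub (fixN l2_E.ns l2_E.b0) = true := by decide +kernel
theorem l2_r0 : l2_E.run [10, 4, 3, 7, 8204, 16396] (1 <<< 0) (List.replicate 6 0) (Enum.done 2 [0, 2, 4]) = true := by decide +kernel
theorem l2_fin {G : Type*} [Group G] {γ : ℕ → G} (hR : Holds (ext γ) l2_R) {H : Subgroup G}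
    (hS : ∀ u ∈ l2_S0, ev (ext γ) u ∈ H) : l2_E.Fin γ H 2 [0, 2, 4] :=
  have hy : l2_E.Hyp γ H := Enum.hyp_of l2_v hR l2_p hS l2_f
  (Enum.fin_of_done hy (Enum.inv_init 6) l2_r0)
noncomputable def l3_n0 : Net := Net.cons 1 0x5 <|
  Net.nil
noncomputable def l3_n2 : Net := Net.cons 2 0x3 <|
  Net.nil
noncomputable def l3_ns : List Net := [l3_n0, Net.nil, l3_n2, Net.nil, Net.nil]
noncomputable def l3_R : List (List ℕ) := [[0, 0], [4, 4], [4, 0, 4, 0]]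
noncomputable def l3_S0 : List (List ℕ) := []
noncomputable def l3_E : Enum := ⟨l3_ns, l3_R, l3_S0, [], 0⟩
theorem l3_v : validAll (2 ^ 3) l3_ns = true := by decide +kernel
theorem l3_p0 : holdsB 3 l3_ns l3_R = true := by decide +kernel
theorem l3_p : Holds (lp l3_ns) l3_R := holdsB_sound l3_v l3_p0
theorem l3_f : allL l3_E.Sub (fixN l3_E.ns l3_E.b0) = true := by decide +kernel
theorem l3_r0 : l3_E.run [2, 0, 18, 4, 4104] (1 <<< 0) (List.replicate 6 0) (Enum.done 4 [0, 4]) = true := by decide +kernel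
theorem l3_fin {G : Type*} [Group G] {γ : ℕ → G} (hR : Holds (ext γ) l3_R) {H : Subgroup G}
    (hS : ∀ u ∈ l3_S0, ev (ext γ) u ∈ H) : l3_E.Fin γ H 4 [0, 4] :=
  have hy : l3_E.Hyp γ H := Enum.hyp_of l3_v hR l3_p hS l3_f
  (Enum.fin_of_done hy (Enum.inv_init 6) l3_r0)
theorem bd3 {G : Type*} [Group G] {γ : ℕ → G} (hR : Holds (ext γ) RR) : Bd (gp γ [0, 4]) 4 :=
  Bd.step (l3_fin (hR.subR (by decide +kernel)) (wordsIn_sound γ (L := []) (by decide +kernel))) (Bd.gp_nil γ) (by norm_num)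
theorem bd2 {G : Type*} [Group G] {γ : ℕ → G} (hR : Holds (ext γ) RR) : Bd (gp γ [0, 2, 4]) 8 :=
  Bd.step (l2_fin (hR.subR (by decide +kernel)) (wordsIn_sound γ (L := [0, 4]) (by decide +kernel))) (bd3 hR) (by norm_num)
theorem bd1 {G : Type*} [Group G] {γ : ℕ → G} (hR : Holds (ext γ) RR) : Bd (gp γ [0, 2, 4, 6]) 24 :=
  Bd.step (l1_fin (hR.subR (by decide +kernel)) (wordsIn_sound γ (L := [0, 2, 4]) (by decide +kernel))) (bd2 hR) (by norm_num)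
theorem bd0 {G : Type*} [Group G] {γ : ℕ → G} (hR : Holds (ext γ) RR) : Bd (gp γ [0, 2, 4, 6, 8]) 360 :=
  Bd.step (l0_fin (hR.subR (by decide +kernel)) (wordsIn_sound γ (L := [0, 2, 4, 6]) (by decide +kernel))) (bd1 hR) (by norm_num)

end Cfsg.Agent.JTY
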