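import Cfsg.Agent.JTY.Rel

set_option autoImplicit false
set_option Elab.async false
set_option maxRecDepth 100000
set_option linter.all false

namespace Cfsg.Agent.JTY
open Cfsg.Agent.CGT

noncomputable def m_n0 : Net := Net.cons 8 0x26 <|
  Net.cons 4 0x602 <|
  Net.cons 2 0x2002 <|
  Net.cons 1 0x4504 <|
  Net.cons 2 0x2012 <|
  Net.cons 4 0x60a <|
  Net.cons 8 0x26 <|
  Net.nil
noncomputable def m_n1 : Net := Net.cons 8 0x3e <|
  Net.cons 4 0x400 <|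
  Net.cons 2 0x2002 <|
  Net.cons 1 0x4054 <|
  Net.cons 2 0x2202 <|
  Net.cons 4 0x500 <|
  Net.cons 8 0x3e <|
  Net.nil
noncomputable def m_n2 : Net := Net.cons 8 0x8 <|
  Net.cons 4 0x20a <|
  Net.cons 1 0x1510 <|
  Net.cons 2 0x302 <|
  Net.cons 4 0x20e <|
  Net.cons 8 0x8 <|
  Net.nil
noncomputable def m_n3 : Net := Net.cons 8 0xee <|
  Net.cons 4 0xe00 <|
  Net.cons 2 0x220 <|
  Net.cons 1 0x144 <|
  Net.cons 2 0x1032 <|
  Net.cons 4 0xa00 <|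
  Net.cons 8 0xbe <|
  Net.nil
noncomputable def m_n4 : Net := Net.cons 8 0xb0 <|
  Net.cons 4 0x400 <|
  Net.cons 2 0x200 <|
  Net.cons 1 0x4111 <|
  Net.cons 2 0x200 <|
  Net.cons 4 0x604 <|
  Net.cons 8 0xb0 <|
  Net.nil
noncomputable def m_ns : List Net := [m_n0, m_n1, m_n2, m_n3, m_n4]
theorem m_v : validAll (2 ^ 4) m_ns = true := by decide +kernel
noncomputable def m_t0 : Tab := (.leaf 0xfbaced9534867120)
noncomputable def m_t1 : Tab := (.leaf 0xfbaced9534867120)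
noncomputable def m_t2 : Tab := (.leaf 0xfecdb9a467281530)
noncomputable def m_t3 : Tab := (.leaf 0xfecdb9a467281530)
noncomputable def m_t4 : Tab := (.leaf 0xfea9bdc352718640)
noncomputable def m_t5 : Tab := (.leaf 0xfea9bdc352718640)
noncomputable def m_t6 : Tab := (.leaf 0xfced9ba754823610)
noncomputable def m_t7 : Tab := (.leaf 0xfdcea9b582763410)
noncomputable def m_t8 : Tab := (.leaf 0xfecd875ba2943601)
noncomputable def m_t9 : Tab := (.leaf 0xfecd875ba2943601)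
noncomputable def m_ts : List Tab := [m_t0, m_t1, m_t2, m_t3, m_t4, m_t5, m_t6, m_t7, m_t8, m_t9]
theorem m_p0 : holdsB 4 m_ns [[0, 0], [2, 2], [4, 4], [8, 8], [0, 2, 0, 2, 4], [4, 0, 4, 0], [6, 6, 6], [2, 6, 2, 6], [6, 4, 7, 0], [6, 0, 7, 0, 4], [8, 6, 8, 6], [8, 0, 8, 0, 8, 0, 8, 0, 8, 0], [8, 4, 8, 4, 8, 4], [8, 4, 0, 8, 4, 0, 8, 4, 0, 8, 4, 0, 8, 4, 0], [8, 2, 8, 2, 8, 2]] = true := by decide +kernel
theorem m_t0_b : Tab.beq (mkTab 4 0 m_ns 0) m_t0 = true := by decide +kernel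
theorem m_t1_b : Tab.beq (mkTab 4 0 m_ns 1) m_t1 = true := by decide +kernel
theorem m_t2_b : Tab.beq (mkTab 4 0 m_ns 2) m_t2 = true := by decide +kernel
theorem m_t3_b : Tab.beq (mkTab 4 0 m_ns 3) m_t3 = true := by decide +kernel
theorem m_t4_b : Tab.beq (mkTab 4 0 m_ns 4) m_t4 = true := by decide +kernel
theorem m_t5_b : Tab.beq (mkTab 4 0 m_ns 5) m_t5 = true := by decide +kernel
theorem m_t6_b : Tab.beq (mkTab 4 0 m_ns 6) m_t6 = true := by decide +kernel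
theorem m_t7_b : Tab.beq (mkTab 4 0 m_ns 7) m_t7 = true := by decide +kernel
theorem m_t8_b : Tab.beq (mkTab 4 0 m_ns 8) m_t8 = true := by decide +kernel
theorem m_t9_b : Tab.beq (mkTab 4 0 m_ns 9) m_t9 = true := by decide +kernel
theorem m_p : Holds (lp m_ns) RR := (holdsB_sound m_v m_p0)
theorem m_ts_ok : TabsOK 4 (lp m_ns) m_ts :=
  TabsFrom.ok ⟨TabOK.of_beq m_v m_t0_b,
    TabOK.of_beq m_v m_t1_b,
    TabOK.of_beq m_v m_t2_b,
    TabOK.of_beq m_v m_t3_b,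
    TabOK.of_beq m_v m_t4_b,
    TabOK.of_beq m_v m_t5_b,
    TabOK.of_beq m_v m_t6_b,
    TabOK.of_beq m_v m_t7_b,
    TabOK.of_beq m_v m_t8_b,
    TabOK.of_beq m_v m_t9_b,
    Nat.le_of_ble_eq_true (by decide +kernel)⟩

end Cfsg.Agent.JTY
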